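import Mathlib.CategoryTheory.Abelian.Basic

/-!
# Eventually constant inverse systems
-/

set_option autoImplicit false
universe v u

open CategoryTheory Limits

namespace Groth.Agent.CountResLib

variable {A : Type u} [Category.{v} A] [Preadditive A] {X : A}

/-- The difference equation of an eventually constant system can be solved. -/
theorem exists_solution : ∀ (N : ℕ) (H : ℕ → A) (t : ∀ n, H (n + 1) ⟶ H n),
    (∀ n, N ≤ n → IsIso (t n)) → ∀ y : ∀ n, X ⟶ H n,
      ∃ z : ∀ n, X ⟶ H n, ∀ n, z n - z (n + 1) ≫ t n = y n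
  | 0, H, t, ht, y => by
    haveI := fun n => ht n n.zero_le
    let z : ∀ n, X ⟶ H n := fun n => Nat.rec 0 (fun m zm => (zm - y m) ≫ inv (t m)) n
    refine ⟨z, fun n => ?_⟩
    show z n - ((z n - y n) ≫ inv (t n)) ≫ t n = y n
    simp
  | N + 1, H, t, ht, y => by
    obtain ⟨z, hz⟩ := exists_solution N (fun n => H (n + 1)) (fun n => t (n + 1))
      (fun n hn => ht (n + 1) (by omega)) (fun n => y (n + 1))
    let z' : ∀ n, X ⟶ H n := fun n => match n with
      | 0 => y 0 + z 0 ≫ t 0
      | m + 1 => z m
    refine ⟨z', fun n => ?_⟩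
    cases n with
    | zero => show y 0 + z 0 ≫ t 0 - z 0 ≫ t 0 = y 0; simp
    | succ m => exact hz m

/-- A compatible family of an eventually constant system is determined by a late term. -/
theorem eq_of_compatible (N : ℕ) {G : A} (H : ℕ → A) (t : ∀ n, H (n + 1) ⟶ H n) (a : ∀ n, G ⟶ H n)
    (ha : ∀ n, a (n + 1) ≫ t n = a n) (hiso : ∀ n, N ≤ n → IsIso (a n)) (x : ∀ n, X ⟶ H n)
    (hx : ∀ n, x (n + 1) ≫ t n = x n) :
    haveI := hiso N le_rfl
    ∀ n, (x N ≫ inv (a N)) ≫ a n = x n := by
  haveI := hiso N le_rfl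
  intro n
  rcases le_total N n with h | h
  · induction n, h using Nat.le_induction with
    | base => simp
    | succ m hm ih =>
      haveI := hiso m hm
      haveI := hiso (m + 1) (by omega)
      haveI : IsIso (t m) := by
        have : IsIso (a (m + 1) ≫ t m) := by rw [ha m]; exact hiso m hm
        exact IsIso.of_isIso_comp_left (a (m + 1)) (t m)
      rw [← cancel_mono (t m), Category.assoc, ha, hx, ih]
  · induction h using Nat.decreasingInduction with
    | self => simp
    | of_succ m _ ih => rw [← ha m, ← Category.assoc, ih, hx]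

end Groth.Agent.CountResLib
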