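import Groth.Agent.CountResLib.Product
import Groth.Agent.CountResLib.System
import Groth.Agent.KInj.Lifting
import Mathlib.Algebra.Homology.Factorizations.CM5a
import Mathlib.Algebra.Homology.HomotopyCategory.MappingCocone
import Mathlib.Algebra.Homology.HomotopyCategory.ShiftSequence
import Mathlib.Algebra.Homology.HomotopyCategory.HomologicalFunctor

/-!
# K-injective resolutions when countable products are exact
-/

set_option autoImplicit false
universe v u

open CategoryTheory Limits HomologicalComplex Pretriangulated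

namespace Groth.Agent.CountResLib

noncomputable section

variable {A : Type u} [Category.{v} A] [Abelian A] (K : CochainComplex A ℤ)

/-- An approximation of a complex in degrees above a bound. -/
structure Approx where
  /-- the truncations' resolutions -/
  J : ℕ → CochainComplex A ℤ
  kinj : ∀ n, (J n).IsKInjective
  /-- the transition maps -/
  t : ∀ n, J (n + 1) ⟶ J n
  /-- the maps from the complex -/
  s : ∀ n, K ⟶ J n
  compat : ∀ n, s (n + 1) ≫ t n = s n
  iso : ∀ (n : ℕ) (k : ℤ), -(n : ℤ) ≤ k → IsIso (homologyMap (s n) k)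

theorem exists_lift_truncGE (n : ℕ) :
    ∃ p : K.truncGE (-((n + 1 : ℕ) : ℤ)) ⟶ K.truncGE (-(n : ℤ)),
      K.πTruncGE (-((n + 1 : ℕ) : ℤ)) ≫ p = K.πTruncGE (-(n : ℤ)) := by
  let b : ℤ := -((n + 1 : ℕ) : ℤ)
  let L := K.truncGE (-(n : ℤ))
  haveI : L.IsStrictlyGE b :=
    CochainComplex.isStrictlyGE_of_ge L b (-(n : ℤ)) (by simp [b])
  haveI : IsIso (L.πTruncGE b) := (L.isIso_πTruncGE_iff b).2 inferInstance
  refine ⟨CochainComplex.truncGEMap (K.πTruncGE (-(n : ℤ))) b ≫ inv (L.πTruncGE b), ?_⟩
  rw [← Category.assoc, CochainComplex.πTruncGE_naturality, Category.assoc, IsIso.hom_inv_id,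
    Category.comp_id]

theorem nonempty_approx [EnoughInjectives A] : Nonempty (Approx K) := by
  have h : ∀ n : ℕ, ∃ (L : CochainComplex A ℤ) (i : K.truncGE (-(n : ℤ)) ⟶ L), Mono i ∧ QuasiIso i ∧
      (∀ q, Injective (L.X q)) ∧ L.IsStrictlyGE (-(n : ℤ) - 1) := fun n => by
    obtain ⟨L, i, h1, h2, h3, h4⟩ :=
      CochainComplex.Plus.modelCategoryQuillen.exists_mono_quasiIso_injective
        (K.truncGE (-(n : ℤ))) (-(n : ℤ) - 1) (-(n : ℤ)) (by simp)
    exact ⟨L, i, h1, h2, h3, h4⟩
  choose L i hmono hqis hinj hge using h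
  have hkinj : ∀ n, (L n).IsKInjective := fun n =>
    haveI := hge n
    haveI := hinj n
    CochainComplex.isKInjective_of_injective (L n) (-(n : ℤ) - 1)
  choose p hp using exists_lift_truncGE K
  have ht : ∀ n, ∃ t : L (n + 1) ⟶ L n, i (n + 1) ≫ t = p n ≫ i n := fun n => by
    haveI := hkinj n
    haveI := hinj n
    haveI := hmono (n + 1)
    let S : ShortComplex (CochainComplex A ℤ) :=
      ShortComplex.mk (i (n + 1)) (cokernel.π (i (n + 1))) (cokernel.condition _)
    have hS : S.ShortExact :=
      { exact := ShortComplex.exact_of_g_is_cokernel _ (cokernelIsCokernel (i (n + 1))) }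
    exact KInj.liftingProperty_of_isKInjective (L n) hS
      ((KInj.quasiIso_iff_acyclic_cokernel (i (n + 1))).1 (hqis (n + 1))) (p n ≫ i n)
  choose t ht using ht
  refine ⟨⟨L, hkinj, t, fun n => K.πTruncGE (-(n : ℤ)) ≫ i n, fun n => ?_, fun n k hk => ?_⟩⟩
  · rw [Category.assoc, ht, ← Category.assoc, hp]
  · haveI := CochainComplex.quasiIsoAt_πTruncGE (K := K) (-(n : ℤ)) k hk
    haveI := hqis n
    rw [homologyMap_comp]
    infer_instance

variable {K} [HasLimitsOfShape (Discrete ℕ) A] (a : Approx K)

/-- The difference map on the product. -/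
def D : prod a.J ⟶ prod a.J := lift fun n => π a.J n - π a.J (n + 1) ≫ a.t n

/-- The comparison with the product. -/
def sP : K ⟶ prod a.J := lift a.s

@[reassoc]
lemma sP_D : sP a ≫ D a = 0 :=
  hom_ext fun n => by simp [sP, D, a.compat]

/-- The resolution. -/
abbrev I : CochainComplex A ℤ := CochainComplex.mappingCocone (D a)

/-- The map to the resolution. -/
def res : K ⟶ I a :=
  CochainComplex.mappingCocone.lift (D a) (sP a) 0 (by simp [sP_D])

lemma res_fst : res a ≫ CochainComplex.mappingCocone.fst (D a) = sP a :=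
  CochainComplex.mappingCocone.lift_fst _ _ _ _

theorem isKInjective_I : (I a).IsKInjective := by
  haveI := isKInjective_prod a.kinj
  suffices (CochainComplex.mappingCone (D a)).IsKInjective from
    (inferInstance : ((CochainComplex.mappingCone (D a))⟦(-1 : ℤ)⟧).IsKInjective)
  rw [CochainComplex.isKInjective_iff_rightOrthogonal]
  exact ObjectProperty.ext_of_isTriangulatedClosed₃ _ _
    (HomotopyCategory.mappingCone_triangleh_distinguished (D a))
    (CochainComplex.IsKInjective.rightOrthogonal (prod a.J))
    (CochainComplex.IsKInjective.rightOrthogonal (prod a.J))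

variable [HasExactLimitsOfShape (Discrete ℕ) A]

omit [HasExactLimitsOfShape (Discrete ℕ) A] in
/-- The mapping cocone triangle is distinguished in the homotopy category. -/
theorem distinguished_cocone :
    (HomotopyCategory.quotient A (ComplexShape.up ℤ)).mapTriangle.obj
      (CochainComplex.mappingCocone.triangle (D a)) ∈ distTriang _ := by
  let Q := HomotopyCategory.quotient A (ComplexShape.up ℤ)
  rw [rotate_distinguished_triangle]
  exact isomorphic_distinguished _
    (HomotopyCategory.mappingCone_triangleh_distinguished (D a)) _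
    ((Q.mapTriangleRotateIso.app _) ≪≫
      Q.mapTriangle.mapIso (CochainComplex.mappingCocone.rotateTriangleIso (D a)))

section Homology

variable (k : ℤ)

lemma homologyMap_D_π (n : ℕ) :
    homologyMap (D a) k ≫ homologyMap (π a.J n) k =
      homologyMap (π a.J n) k - homologyMap (π a.J (n + 1)) k ≫ homologyMap (a.t n) k := by
  rw [← homologyMap_comp, D, lift_π, homologyMap_sub, homologyMap_comp]

lemma homologyMap_sP_π (n : ℕ) :
    homologyMap (sP a) k ≫ homologyMap (π a.J n) k = homologyMap (a.s n) k := by
  rw [← homologyMap_comp, sP, lift_π]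

theorem epi_homologyMap_D : Epi (homologyMap (D a) k) := by
  have hT : ∀ n, (-k).toNat ≤ n → IsIso (homologyMap (a.t n) k) := fun n hn => by
    haveI := a.iso n k (by omega)
    haveI := a.iso (n + 1) k (by omega)
    have : IsIso (homologyMap (a.s (n + 1)) k ≫ homologyMap (a.t n) k) := by
      rw [← homologyMap_comp, a.compat]; infer_instance
    exact IsIso.of_isIso_comp_left (homologyMap (a.s (n + 1)) k) _
  obtain ⟨z, hz⟩ := exists_solution (-k).toNat (fun n => (a.J n).homology k)
    (fun n => homologyMap (a.t n) k) hT (fun n => homologyMap (π a.J n) k)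
  let σ := Fan.IsLimit.lift (isLimitHomology a.J k) z
  have hσ : ∀ n, σ ≫ homologyMap (π a.J n) k = z n := Fan.IsLimit.fac (isLimitHomology a.J k) z
  have : σ ≫ homologyMap (D a) k = 𝟙 _ := Fan.IsLimit.hom_ext (isLimitHomology a.J k) _ _ fun n => by
    show (σ ≫ homologyMap (D a) k) ≫ homologyMap (π a.J n) k = 𝟙 _ ≫ homologyMap (π a.J n) k
    rw [Category.assoc, homologyMap_D_π, Preadditive.comp_sub, ← Category.assoc, hσ, hσ,
      Category.id_comp, hz]
  exact (SplitEpi.mk _ this).epi

theorem exists_factor {X : A} (x : X ⟶ (prod a.J).homology k) (hx : x ≫ homologyMap (D a) k = 0) :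
    ∃ w, w ≫ homologyMap (sP a) k = x := by
  let N := (-k).toNat
  haveI := a.iso N k (by omega)
  refine ⟨(x ≫ homologyMap (π a.J N) k) ≫ inv (homologyMap (a.s N) k), ?_⟩
  refine Fan.IsLimit.hom_ext (isLimitHomology a.J k) _ _ fun n => ?_
  show (_ ≫ homologyMap (sP a) k) ≫ homologyMap (π a.J n) k = x ≫ homologyMap (π a.J n) k
  rw [Category.assoc, homologyMap_sP_π]
  refine eq_of_compatible N (fun n => (a.J n).homology k) (fun n => homologyMap (a.t n) k)
    (fun n => homologyMap (a.s n) k) (fun m => by rw [← homologyMap_comp, a.compat])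
    (fun m hm => a.iso m k (by omega)) (fun n => x ≫ homologyMap (π a.J n) k) (fun m => ?_) n
  have h := congrArg (· ≫ homologyMap (π a.J m) k) hx
  rw [zero_comp, Category.assoc, homologyMap_D_π, Preadditive.comp_sub, sub_eq_zero] at h
  rw [h, Category.assoc]

theorem mono_homologyMap_sP : Mono (homologyMap (sP a) k) := by
  haveI := a.iso (-k).toNat k (by omega)
  refine mono_of_mono_fac (h := homologyMap (a.s (-k).toNat) k) (homologyMap_sP_π a k _)

theorem mono_homologyMap_fst :
    Mono (homologyMap (CochainComplex.mappingCocone.fst (D a)) k) := by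
  let Tc := CochainComplex.mappingCocone.triangle (D a)
  let Q := HomotopyCategory.quotient A (ComplexShape.up ℤ)
  let F := HomotopyCategory.homologyFunctor A (ComplexShape.up ℤ) 0
  have hT : Q.mapTriangle.obj Tc ∈ distTriang _ := distinguished_cocone a
  have hepi : Epi ((F.shift (k - 1)).map (Q.mapTriangle.obj Tc).mor₂) := by
    exact ((MorphismProperty.epimorphisms A).arrow_mk_iso_iff
      (((Functor.mapArrowFunctor _ _).mapIso
        (HomotopyCategory.homologyFunctorFactors A (ComplexShape.up ℤ) (k - 1))).app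
          (Arrow.mk (D a)))).2 (epi_homologyMap_D a (k - 1))
  have hδ := (F.homologySequence_epi_shift_map_mor₂_iff _ hT (k - 1) k (by omega)).1 hepi
  have hm : Mono ((F.shift k).map (Q.mapTriangle.obj Tc).mor₁) :=
    (F.homologySequence_mono_shift_map_mor₁_iff _ hT (k - 1) k (by omega)).2 hδ
  exact ((MorphismProperty.monomorphisms A).arrow_mk_iso_iff
    (((Functor.mapArrowFunctor _ _).mapIso
      (HomotopyCategory.homologyFunctorFactors A (ComplexShape.up ℤ) k)).app
        (Arrow.mk (CochainComplex.mappingCocone.fst (D a))))).1 hm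

theorem isIso_homologyMap_res : IsIso (homologyMap (res a) k) := by
  haveI := mono_homologyMap_sP a k
  haveI := mono_homologyMap_fst a k
  have hfst : homologyMap (CochainComplex.mappingCocone.fst (D a)) k ≫ homologyMap (D a) k = 0 := by
    have h := HomotopyCategory.homotopyOfEq (CochainComplex.mappingCocone.fst (D a) ≫ D a) 0 (by
      rw [Functor.map_comp, Functor.map_zero]
      exact comp_distTriang_mor_zero₁₂ _ (distinguished_cocone a))
    rw [← homologyMap_comp, h.homologyMap_eq, homologyMap_zero]
  obtain ⟨w, hw⟩ := exists_factor a k _ hfst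
  have hres : homologyMap (res a) k ≫ homologyMap (CochainComplex.mappingCocone.fst (D a)) k =
      homologyMap (sP a) k := by rw [← homologyMap_comp, res_fst]
  refine ⟨w, ?_, ?_⟩
  · rw [← cancel_mono (homologyMap (sP a) k), Category.assoc, hw, hres, Category.id_comp]
  · rw [← cancel_mono (homologyMap (CochainComplex.mappingCocone.fst (D a)) k), Category.assoc,
      hres, hw, Category.id_comp]

end Homology

theorem exists_resolution [EnoughInjectives A] (K : CochainComplex A ℤ) :
    ∃ (I' : CochainComplex A ℤ) (f : K ⟶ I'), I'.IsKInjective ∧ QuasiIso f := by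
  obtain ⟨a⟩ := nonempty_approx K
  refine ⟨I a, res a, isKInjective_I a, ⟨fun k => ?_⟩⟩
  rw [quasiIsoAt_iff_isIso_homologyMap]
  exact isIso_homologyMap_res a k

end

end Groth.Agent.CountResLib
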