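import Mathlib.Algebra.Homology.ShortComplex.Abelian
import Mathlib.Algebra.Homology.ShortComplex.PreservesHomology
import Mathlib.Algebra.Homology.ShortComplex.ExactFunctor
import Mathlib.Algebra.Homology.HomotopyCategory.KInjective
import Mathlib.Algebra.Homology.Additive
import Mathlib.CategoryTheory.Abelian.GrothendieckAxioms.Basic
import Mathlib.CategoryTheory.Abelian.FunctorCategory

/-!
# Products of a sequence of complexes when countable products are exact
-/

set_option autoImplicit false
universe v u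

open CategoryTheory Limits

namespace Groth.Agent.CountResLib

noncomputable section

variable {A : Type u} [Category.{v} A] [Abelian A] [HasLimitsOfShape (Discrete ℕ) A]
variable (J : ℕ → CochainComplex A ℤ)

instance : (lim : (Discrete ℕ ⥤ A) ⥤ A).Additive where

/-- A sequence of complexes, as a complex of sequences. -/
def swap : CochainComplex (Discrete ℕ ⥤ A) ℤ where
  X i := Discrete.functor fun n => (J n).X i
  d i j := Discrete.natTrans fun n => (J n.as).d i j
  shape i j h := by ext ⟨n⟩; exact (J n).shape i j h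
  d_comp_d' i j k _ _ := by ext ⟨n⟩; exact (J n).d_comp_d i j k

/-- The product of a sequence of complexes. -/
def prod : CochainComplex A ℤ :=
  ((lim : (Discrete ℕ ⥤ A) ⥤ A).mapHomologicalComplex _).obj (swap J)

/-- The natural projection from limits. -/
def evalπ (n : ℕ) : (lim : (Discrete ℕ ⥤ A) ⥤ A) ⟶ (evaluation (Discrete ℕ) A).obj ⟨n⟩ where
  app F := limit.π F ⟨n⟩
  naturality _ _ f := limMap_π f ⟨n⟩

/-- The projections of the product. -/
def π (n : ℕ) : prod J ⟶ J n where
  f i := limit.π ((swap J).X i) ⟨n⟩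
  comm' i j _ := (limMap_π ((swap J).d i j) ⟨n⟩).symm

variable {J}

omit [Abelian A] [HasLimitsOfShape (Discrete ℕ) A] in
/-- A cone over a sequence. -/
def mkCone (F : Discrete ℕ ⥤ A) (X : A) (f : ∀ n, X ⟶ F.obj ⟨n⟩) : Cone F :=
  ⟨X, Discrete.natTrans fun n => f n.as⟩

omit [Abelian A] in
/-- A map into the limit of a sequence. -/
def liftTo (F : Discrete ℕ ⥤ A) {X : A} (f : ∀ n, X ⟶ F.obj ⟨n⟩) : X ⟶ limit F :=
  limit.lift F (mkCone F X f)

omit [Abelian A] in
@[reassoc (attr := simp)]
lemma liftTo_π (F : Discrete ℕ ⥤ A) {X : A} (f : ∀ n, X ⟶ F.obj ⟨n⟩) (n : ℕ) :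
    liftTo F f ≫ limit.π F ⟨n⟩ = f n :=
  limit.lift_π _ _

/-- Maps into the product. -/
def lift {K : CochainComplex A ℤ} (f : ∀ n, K ⟶ J n) : K ⟶ prod J where
  f i := liftTo ((swap J).X i) (fun n => (f n).f i)
  comm' i j _ := limit.hom_ext fun ⟨n⟩ => by
    change ((_ : K.X i ⟶ limit ((swap J).X i)) ≫ limMap ((swap J).d i j)) ≫ limit.π _ _ = _
    refine ((Category.assoc _ _ _).trans (congrArg (_ ≫ ·) (limMap_π _ _))).trans ?_
    refine (liftTo_π_assoc _ _ _ _).trans (Eq.trans ?_ (Category.assoc _ _ _).symm)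
    refine Eq.trans ?_ (congrArg (K.d i j ≫ ·)
      (liftTo_π ((swap J).X j) (fun n => (f n).f j) n).symm)
    exact (f n).comm i j

@[reassoc (attr := simp)]
lemma lift_π {K : CochainComplex A ℤ} (f : ∀ n, K ⟶ J n) (n : ℕ) : lift f ≫ π J n = f n := by
  ext i
  exact liftTo_π ((swap J).X i) (fun n => (f n).f i) n

lemma hom_ext {K : CochainComplex A ℤ} {f g : K ⟶ prod J} (h : ∀ n, f ≫ π J n = g ≫ π J n) :
    f = g := by
  ext i
  exact limit.hom_ext fun ⟨n⟩ => congr_arg (fun φ : K ⟶ J n => φ.f i) (h n)

/-- A product of K-injective complexes is K-injective. -/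
theorem isKInjective_prod (h : ∀ n, (J n).IsKInjective) : (prod J).IsKInjective where
  nonempty_homotopy_zero {K} f hK := by
    let H : ∀ n, Homotopy (f ≫ π J n) 0 := fun n =>
      letI := h n
      CochainComplex.IsKInjective.homotopyZero _ hK
    let hom : ∀ i j, K.X i ⟶ (prod J).X j := fun i j =>
      liftTo ((swap J).X j) (fun n => (H n).hom i j)
    have hhom : ∀ n i j, hom i j ≫ (π J n).f j = (H n).hom i j :=
      fun n i j => liftTo_π ((swap J).X j) (fun n => (H n).hom i j) n
    refine ⟨{ hom := hom, zero := fun i j hij => ?_, comm := fun i => ?_ }⟩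
    · refine limit.hom_ext fun ⟨n⟩ => ?_
      exact (hhom n i j).trans (((H n).zero i j hij).trans zero_comp.symm)
    · refine limit.hom_ext fun ⟨n⟩ => ?_
      show _ ≫ (π J n).f i = _ ≫ (π J n).f i
      have e := (H n).comm i
      rw [HomologicalComplex.comp_f] at e
      rw [e, dNext_eq _ (show (ComplexShape.up ℤ).Rel i (i + 1) from rfl),
        dNext_eq _ (show (ComplexShape.up ℤ).Rel i (i + 1) from rfl),
        prevD_eq _ (show (ComplexShape.up ℤ).Rel (i - 1) i from by simp),
        prevD_eq _ (show (ComplexShape.up ℤ).Rel (i - 1) i from by simp)]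
      simp only [HomologicalComplex.zero_f, add_zero, Preadditive.add_comp, Category.assoc,
        ← (π J n).comm, hhom, reassoc_of% (hhom n i (i - 1))]

variable [HasExactLimitsOfShape (Discrete ℕ) A] (J) (k : ℤ)

instance : PreservesFiniteColimits (lim : (Discrete ℕ ⥤ A) ⥤ A) :=
  HasExactLimitsOfShape.preservesFiniteColimits

/-- The homology of the product is the product of the homologies. -/
def isLimitHomology : IsLimit (Fan.mk ((prod J).homology k)
    fun n => HomologicalComplex.homologyMap (π J n) k) := by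
  let S := (swap J).sc k
  let e : (prod J).homology k ≅ (lim : (Discrete ℕ ⥤ A) ⥤ A).obj S.homology :=
    S.mapHomologyIso lim
  let ev : ∀ n, S.homology.obj ⟨n⟩ ≅ (J n).homology k := fun n =>
    (S.mapHomologyIso ((evaluation (Discrete ℕ) A).obj ⟨n⟩)).symm
  have he : ∀ n, HomologicalComplex.homologyMap (π J n) k =
      e.hom ≫ limit.π S.homology ⟨n⟩ ≫ (ev n).hom := fun n =>
    ShortComplex.homologyMap_mapNatTrans S (evalπ n)
  refine Fan.IsLimit.mk _
    (fun c => (liftTo S.homology (fun n => c.proj n ≫ (ev n).inv) : c.pt ⟶ _) ≫ e.inv)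
    (fun c n => ?_) (fun c m hm => ?_)
  · show (_ ≫ e.inv) ≫ HomologicalComplex.homologyMap (π J n) k = _
    rw [he, Category.assoc, Iso.inv_hom_id_assoc]
    refine (liftTo_π_assoc S.homology _ n _).trans ?_
    simp
  · rw [Iso.eq_comp_inv]
    refine limit.hom_ext fun ⟨n⟩ => ?_
    refine ((Category.assoc _ _ _).trans ?_).trans (liftTo_π S.homology _ n).symm
    refine (Iso.eq_comp_inv _).2 ?_
    rw [Category.assoc, Category.assoc, ← he]
    exact hm n

end

end Groth.Agent.CountResLib
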